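import Cfsg.Agent.H10.Fi22T.F5.RAll
import Cfsg.Agent.H10.Fi22T.F6.RAll
import Cfsg.Agent.H10.Fi22T.F7.RAll
import Cfsg.Agent.H10.Fi22T.F8.RAll
import Cfsg.Agent.H35.T1685.RAll
import Cfsg.Agent.H35.T1685.PAll

/-!
# Upper bound for the order from a tower of coset enumerations (helper10; generated)
-/

set_option autoImplicit false

namespace Cfsg.Agent.H10.Fi22T

open Cfsg.Agent.H35 Cfsg.Spor Cfsg.Agent.H10

theorem f5_bound : Finite (WG f5_rws f5_prels) ∧ Nat.card (WG f5_rws f5_prels) ≤ 1920 := by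
  have hy : RHyp f5_rd (swGrp (wgGen f5_rws f5_prels) f5_rsw) (wgGen f5_rws f5_prels) := by
    refine ⟨wg_inv _ _, fi22_gof_gi, by decide, fun p hp => wrapRow_of_le _ _ p hp, ?_, ?_,
      f5_h0, by decide⟩
    · exact circTab_valid _ (wg_inv _ _) _ (wg_full_one _ _) f5_circT f5_ccert f5_circ_ok
    · exact hcTab_valid _ (wg_inv _ _) _ f5_rsw
        (fun w hw => mem_swGrp _ _ w hw) f5_hc1T f5_hc2T _
        (fun c hc => allR_sound _ _ _ 0 f5_hc_ok c (Nat.zero_le _) (by omega) hc)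
  have hb := replay_bound hy fi22_gens_all (wg_closure _ _) (by decide) (by decide) f5_rall
  exact card_le_of_trivial (wgGen f5_rws f5_prels) 1920 hb

theorem f6_bound : Finite (WG f6_rws f6_prels) ∧ Nat.card (WG f6_rws f6_prels) ≤ 27 * (1920) := by
  have hy : RHyp f6_rd (swGrp (wgGen f6_rws f6_prels) f6_rsw) (wgGen f6_rws f6_prels) := by
    refine ⟨wg_inv _ _, fi22_gof_gi, by decide, fun p hp => wrapRow_of_le _ _ p hp, ?_, ?_,
      f6_h0, by decide⟩
    · exact circTab_valid _ (wg_inv _ _) _ (wg_full_one _ _) f6_circT f6_ccert f6_circ_ok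
    · exact hcTab_valid _ (wg_inv _ _) _ f6_rsw
        (fun w hw => mem_swGrp _ _ w hw) f6_hc1T f6_hc2T _
        (fun c hc => allR_sound _ _ _ 0 f6_hc_ok c (Nat.zero_le _) (by omega) hc)
  have hb := replay_bound hy fi22_gens_all (wg_closure _ _) (by decide) (by decide) f6_rall
  obtain ⟨φ, hφ⟩ := sub_hom f5_S (wgGen f6_rws f6_prels) (wg_inv _ _) f6_rws f6_prels
    f5_rws f5_prels (wg_rws _ _) (wg_prels _ _) (by decide)
  have := f5_bound.1
  exact card_le_tower _ 27 hb φ
    (swGrp_le_range _ (wgGen f5_rws f5_prels) f5_S φ hφ f6_rsw (by decide)) _ f5_bound.2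

theorem f7_bound : Finite (WG f7_rws f7_prels) ∧ Nat.card (WG f7_rws f7_prels) ≤ 243 * (27 * (1920)) := by
  have hy : RHyp f7_rd (swGrp (wgGen f7_rws f7_prels) f7_rsw) (wgGen f7_rws f7_prels) := by
    refine ⟨wg_inv _ _, fi22_gof_gi, by decide, fun p hp => wrapRow_of_le _ _ p hp, ?_, ?_,
      f7_h0, by decide⟩
    · exact circTab_valid _ (wg_inv _ _) _ (wg_full_one _ _) f7_circT f7_ccert f7_circ_ok
    · exact hcTab_valid _ (wg_inv _ _) _ f7_rsw
        (fun w hw => mem_swGrp _ _ w hw) f7_hc1T f7_hc2T _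
        (fun c hc => allR_sound _ _ _ 0 f7_hc_ok c (Nat.zero_le _) (by omega) hc)
  have hb := replay_bound hy fi22_gens_all (wg_closure _ _) (by decide) (by decide) f7_rall
  obtain ⟨φ, hφ⟩ := sub_hom f6_S (wgGen f7_rws f7_prels) (wg_inv _ _) f7_rws f7_prels
    f6_rws f6_prels (wg_rws _ _) (wg_prels _ _) (by decide)
  have := f6_bound.1
  exact card_le_tower _ 243 hb φ
    (swGrp_le_range _ (wgGen f6_rws f6_prels) f6_S φ hφ f7_rsw (by decide)) _ f6_bound.2

theorem f8_bound : Finite (WG f8_rws f8_prels) ∧ Nat.card (WG f8_rws f8_prels) ≤ 364 * (243 * (27 * (1920))) := by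
  have hy : RHyp f8_rd (swGrp (wgGen f8_rws f8_prels) f8_rsw) (wgGen f8_rws f8_prels) := by
    refine ⟨wg_inv _ _, fi22_gof_gi, by decide, fun p hp => wrapRow_of_le _ _ p hp, ?_, ?_,
      f8_h0, by decide⟩
    · exact circTab_valid _ (wg_inv _ _) _ (wg_full_one _ _) f8_circT f8_ccert f8_circ_ok
    · exact hcTab_valid _ (wg_inv _ _) _ f8_rsw
        (fun w hw => mem_swGrp _ _ w hw) f8_hc1T f8_hc2T _
        (fun c hc => allR_sound _ _ _ 0 f8_hc_ok c (Nat.zero_le _) (by omega) hc)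
  have hb := replay_bound hy fi22_gens_all (wg_closure _ _) (by decide) (by decide) f8_rall
  obtain ⟨φ, hφ⟩ := sub_hom f7_S (wgGen f8_rws f8_prels) (wg_inv _ _) f8_rws f8_prels
    f7_rws f7_prels (wg_rws _ _) (wg_prels _ _) (by decide)
  have := f7_bound.1
  exact card_le_tower _ 364 hb φ
    (swGrp_le_range _ (wgGen f7_rws f7_prels) f7_S φ hφ f8_rsw (by decide)) _ f7_bound.2

/-- the subgroup of the top enumeration -/
def Hs : Subgroup Fi22 := swGrp fi22_gen t1685_sw

theorem t1685_hsw : t1685_rsw = t1685_sw := by decide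

theorem top_hyp : TCHyp fi22_gen Hs t1685_pd t1685_rd fi22_rws fi22_prels t1685_sw where
  UP := fun f hf h1 h2 => fi22_UP f hf h1 h2
  hP := by
    refine ⟨by decide, fi22_gens_all, ?_, t1685_psub⟩
    intro p hp
    exact t1685_pall p hp
  hy := by
    refine ⟨fi22_inv, fi22_gof_gi, by decide, fun p hp => wrapRow_of_le _ _ p hp, ?_, ?_,
      t1685_h0, by decide⟩
    · exact circTab_valid fi22_gen fi22_inv _ fi22_full_one t1685_circT t1685_ccert t1685_circ_ok
    · refine hcTab_valid fi22_gen fi22_inv Hs t1685_rsw ?_ t1685_hc1T t1685_hc2T _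
        (fun c hc => allR_sound _ _ _ 0 t1685_hc_ok c (Nat.zero_le _) (by omega) hc)
      intro w hw
      rw [t1685_hsw] at hw
      exact mem_swGrp _ _ w hw
  hgensR := fi22_gens_all
  hgen := fi22_closure
  hN := by decide
  hNM := by decide
  hNN := rfl
  hchk := t1685_rall
  hH := rfl

theorem top_bound : Finite Fi22 ∧ Nat.card Fi22 ≤ 64561751654400 := by
  have hb := replay_bound top_hyp.hy fi22_gens_all fi22_closure (by decide) (by decide) t1685_rall
  obtain ⟨φ, hφ⟩ := sub_hom f8_S fi22_gen fi22_inv fi22_rws fi22_prels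
    f8_rws f8_prels (fi22_list_of_sat _ fi22_sat).1 (fi22_list_of_sat _ fi22_sat).2 (by decide)
  have := f8_bound.1
  have := card_le_tower Hs 14080 hb φ
    (swGrp_le_range _ (wgGen f8_rws f8_prels) f8_S φ hφ t1685_sw (by decide)) _ f8_bound.2
  exact this

end Cfsg.Agent.H10.Fi22T
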