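import Cfsg.Agent.H10.Fi22T.LData

set_option autoImplicit false
set_option linter.all false

namespace Cfsg.Agent.H10.Fi22T

open Cfsg.Agent.H35 Cfsg.Spor Cfsg.Agent.H10

theorem fl_lvlA : allR (fun p => lvlOK t1685_pd fl_lab 0 fl_wsA 1 p) 14080 14 0 = true := by decide +kernel
theorem fl_fixA : fixOK t1685_pd fl_wsA [0] = true := by decide +kernel
theorem fl_cntA : cntR (fun p => Nat.ble 1 (fld 16 (fl_lab p) 0)) 14080 14 0 = 3159 := by decide +kernel
theorem fl_lvlB : allR (fun p => lvlOK t1685_pd fl_lab 2 fl_wsB 191 p) 14080 14 0 = true := by decide +kernel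
theorem fl_fixB : fixOK t1685_pd fl_wsB [0] = true := by decide +kernel
theorem fl_cntB : cntR (fun p => Nat.ble 1 (fld 16 (fl_lab p) 2)) 14080 14 0 = 10920 := by decide +kernel
theorem fl_lvl3 : allR (fun p => lvlOK t1685_pd fl_lab 4 fl_ws3 1339 p) 14080 14 0 = true := by decide +kernel
theorem fl_fix3 : fixOK t1685_pd fl_ws3 [0, 1] = true := by decide +kernel
theorem fl_cnt3 : cntR (fun p => Nat.ble 1 (fld 16 (fl_lab p) 4)) 14080 14 0 = 7560 := by decide +kernel
theorem fl_lvl4 : allR (fun p => lvlOK t1685_pd fl_lab 6 fl_ws4 10395 p) 14080 14 0 = true := by decide +kernel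
theorem fl_fix4 : fixOK t1685_pd fl_ws4 [0, 1, 1339] = true := by decide +kernel
theorem fl_cnt4 : cntR (fun p => Nat.ble 1 (fld 16 (fl_lab p) 6)) 14080 14 0 = 192 := by decide +kernel
theorem fl_all : allR (fun p => Nat.beq p 0 || (Nat.ble 1 (fld 16 (fl_lab p) 0) || Nat.ble 1 (fld 16 (fl_lab p) 2))) 14080 14 0 = true := by decide +kernel
theorem fl_zeroA : fld 16 (fl_lab 0) 0 = 0 := by decide +kernel
theorem fl_zeroB : fld 16 (fl_lab 0) 2 = 0 := by decide +kernel

end Cfsg.Agent.H10.Fi22T
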