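import Cfsg.Agent.H10.Fi22T.LData

set_option autoImplicit false
set_option linter.all false

namespace Cfsg.Agent.H10.Fi22T

open Cfsg.Agent.H35 Cfsg.Spor Cfsg.Agent.H10

theorem fl_pow0_b42 : allR fl_pf0 14080 8 (42 * 2 ^ 8) = true := by decide +kernel
theorem fl_pow0_b43 : allR fl_pf0 14080 8 (43 * 2 ^ 8) = true := by decide +kernel
theorem fl_pow0_b44 : allR fl_pf0 14080 8 (44 * 2 ^ 8) = true := by decide +kernel
theorem fl_pow0_b45 : allR fl_pf0 14080 8 (45 * 2 ^ 8) = true := by decide +kernel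
theorem fl_pow0_b46 : allR fl_pf0 14080 8 (46 * 2 ^ 8) = true := by decide +kernel
theorem fl_pow0_b47 : allR fl_pf0 14080 8 (47 * 2 ^ 8) = true := by decide +kernel
theorem fl_pow0_b48 : allR fl_pf0 14080 8 (48 * 2 ^ 8) = true := by decide +kernel
theorem fl_pow0_b49 : allR fl_pf0 14080 8 (49 * 2 ^ 8) = true := by decide +kernel
theorem fl_pow0_b50 : allR fl_pf0 14080 8 (50 * 2 ^ 8) = true := by decide +kernel
theorem fl_pow0_b51 : allR fl_pf0 14080 8 (51 * 2 ^ 8) = true := by decide +kernel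
theorem fl_pow0_b52 : allR fl_pf0 14080 8 (52 * 2 ^ 8) = true := by decide +kernel
theorem fl_pow0_b53 : allR fl_pf0 14080 8 (53 * 2 ^ 8) = true := by decide +kernel
theorem fl_pow0_b54 : allR fl_pf0 14080 8 (54 * 2 ^ 8) = true := by decide +kernel
theorem fl_pow1_b0 : allR fl_pf1 14080 8 (0 * 2 ^ 8) = true := by decide +kernel
theorem fl_pow1_b1 : allR fl_pf1 14080 8 (1 * 2 ^ 8) = true := by decide +kernel
theorem fl_pow1_b2 : allR fl_pf1 14080 8 (2 * 2 ^ 8) = true := by decide +kernel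
theorem fl_pow1_b3 : allR fl_pf1 14080 8 (3 * 2 ^ 8) = true := by decide +kernel
theorem fl_pow1_b4 : allR fl_pf1 14080 8 (4 * 2 ^ 8) = true := by decide +kernel
theorem fl_pow1_b5 : allR fl_pf1 14080 8 (5 * 2 ^ 8) = true := by decide +kernel
theorem fl_pow1_b6 : allR fl_pf1 14080 8 (6 * 2 ^ 8) = true := by decide +kernel
theorem fl_pow1_b7 : allR fl_pf1 14080 8 (7 * 2 ^ 8) = true := by decide +kernel
theorem fl_pow1_b8 : allR fl_pf1 14080 8 (8 * 2 ^ 8) = true := by decide +kernel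
theorem fl_pow1_b9 : allR fl_pf1 14080 8 (9 * 2 ^ 8) = true := by decide +kernel
theorem fl_pow1_b10 : allR fl_pf1 14080 8 (10 * 2 ^ 8) = true := by decide +kernel
theorem fl_pow1_b11 : allR fl_pf1 14080 8 (11 * 2 ^ 8) = true := by decide +kernel
theorem fl_pow1_b12 : allR fl_pf1 14080 8 (12 * 2 ^ 8) = true := by decide +kernel
theorem fl_pow1_b13 : allR fl_pf1 14080 8 (13 * 2 ^ 8) = true := by decide +kernel
theorem fl_pow1_b14 : allR fl_pf1 14080 8 (14 * 2 ^ 8) = true := by decide +kernel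
theorem fl_pow1_b15 : allR fl_pf1 14080 8 (15 * 2 ^ 8) = true := by decide +kernel
theorem fl_pow1_b16 : allR fl_pf1 14080 8 (16 * 2 ^ 8) = true := by decide +kernel
theorem fl_pow1_b17 : allR fl_pf1 14080 8 (17 * 2 ^ 8) = true := by decide +kernel
theorem fl_pow1_b18 : allR fl_pf1 14080 8 (18 * 2 ^ 8) = true := by decide +kernel
theorem fl_pow1_b19 : allR fl_pf1 14080 8 (19 * 2 ^ 8) = true := by decide +kernel
theorem fl_pow1_b20 : allR fl_pf1 14080 8 (20 * 2 ^ 8) = true := by decide +kernel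
theorem fl_pow1_b21 : allR fl_pf1 14080 8 (21 * 2 ^ 8) = true := by decide +kernel
theorem fl_pow1_b22 : allR fl_pf1 14080 8 (22 * 2 ^ 8) = true := by decide +kernel
theorem fl_pow1_b23 : allR fl_pf1 14080 8 (23 * 2 ^ 8) = true := by decide +kernel
theorem fl_pow1_b24 : allR fl_pf1 14080 8 (24 * 2 ^ 8) = true := by decide +kernel
theorem fl_pow1_b25 : allR fl_pf1 14080 8 (25 * 2 ^ 8) = true := by decide +kernel
theorem fl_pow1_b26 : allR fl_pf1 14080 8 (26 * 2 ^ 8) = true := by decide +kernel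
theorem fl_pow1_b27 : allR fl_pf1 14080 8 (27 * 2 ^ 8) = true := by decide +kernel
theorem fl_pow1_b28 : allR fl_pf1 14080 8 (28 * 2 ^ 8) = true := by decide +kernel

end Cfsg.Agent.H10.Fi22T
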