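import Cfsg.Agent.H10.Fi22T.LData

set_option autoImplicit false
set_option linter.all false

namespace Cfsg.Agent.H10.Fi22T

open Cfsg.Agent.H35 Cfsg.Spor Cfsg.Agent.H10

theorem fl_pow1_b29 : allR fl_pf1 14080 8 (29 * 2 ^ 8) = true := by decide +kernel
theorem fl_pow1_b30 : allR fl_pf1 14080 8 (30 * 2 ^ 8) = true := by decide +kernel
theorem fl_pow1_b31 : allR fl_pf1 14080 8 (31 * 2 ^ 8) = true := by decide +kernel
theorem fl_pow1_b32 : allR fl_pf1 14080 8 (32 * 2 ^ 8) = true := by decide +kernel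
theorem fl_pow1_b33 : allR fl_pf1 14080 8 (33 * 2 ^ 8) = true := by decide +kernel
theorem fl_pow1_b34 : allR fl_pf1 14080 8 (34 * 2 ^ 8) = true := by decide +kernel
theorem fl_pow1_b35 : allR fl_pf1 14080 8 (35 * 2 ^ 8) = true := by decide +kernel
theorem fl_pow1_b36 : allR fl_pf1 14080 8 (36 * 2 ^ 8) = true := by decide +kernel
theorem fl_pow1_b37 : allR fl_pf1 14080 8 (37 * 2 ^ 8) = true := by decide +kernel
theorem fl_pow1_b38 : allR fl_pf1 14080 8 (38 * 2 ^ 8) = true := by decide +kernel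
theorem fl_pow1_b39 : allR fl_pf1 14080 8 (39 * 2 ^ 8) = true := by decide +kernel
theorem fl_pow1_b40 : allR fl_pf1 14080 8 (40 * 2 ^ 8) = true := by decide +kernel
theorem fl_pow1_b41 : allR fl_pf1 14080 8 (41 * 2 ^ 8) = true := by decide +kernel
theorem fl_pow1_b42 : allR fl_pf1 14080 8 (42 * 2 ^ 8) = true := by decide +kernel
theorem fl_pow1_b43 : allR fl_pf1 14080 8 (43 * 2 ^ 8) = true := by decide +kernel
theorem fl_pow1_b44 : allR fl_pf1 14080 8 (44 * 2 ^ 8) = true := by decide +kernel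
theorem fl_pow1_b45 : allR fl_pf1 14080 8 (45 * 2 ^ 8) = true := by decide +kernel
theorem fl_pow1_b46 : allR fl_pf1 14080 8 (46 * 2 ^ 8) = true := by decide +kernel
theorem fl_pow1_b47 : allR fl_pf1 14080 8 (47 * 2 ^ 8) = true := by decide +kernel
theorem fl_pow1_b48 : allR fl_pf1 14080 8 (48 * 2 ^ 8) = true := by decide +kernel
theorem fl_pow1_b49 : allR fl_pf1 14080 8 (49 * 2 ^ 8) = true := by decide +kernel
theorem fl_pow1_b50 : allR fl_pf1 14080 8 (50 * 2 ^ 8) = true := by decide +kernel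
theorem fl_pow1_b51 : allR fl_pf1 14080 8 (51 * 2 ^ 8) = true := by decide +kernel
theorem fl_pow1_b52 : allR fl_pf1 14080 8 (52 * 2 ^ 8) = true := by decide +kernel
theorem fl_pow1_b53 : allR fl_pf1 14080 8 (53 * 2 ^ 8) = true := by decide +kernel
theorem fl_pow1_b54 : allR fl_pf1 14080 8 (54 * 2 ^ 8) = true := by decide +kernel
theorem fl_pow2_b0 : allR fl_pf2 14080 8 (0 * 2 ^ 8) = true := by decide +kernel
theorem fl_pow2_b1 : allR fl_pf2 14080 8 (1 * 2 ^ 8) = true := by decide +kernel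
theorem fl_pow2_b2 : allR fl_pf2 14080 8 (2 * 2 ^ 8) = true := by decide +kernel
theorem fl_pow2_b3 : allR fl_pf2 14080 8 (3 * 2 ^ 8) = true := by decide +kernel
theorem fl_pow2_b4 : allR fl_pf2 14080 8 (4 * 2 ^ 8) = true := by decide +kernel
theorem fl_pow2_b5 : allR fl_pf2 14080 8 (5 * 2 ^ 8) = true := by decide +kernel
theorem fl_pow2_b6 : allR fl_pf2 14080 8 (6 * 2 ^ 8) = true := by decide +kernel
theorem fl_pow2_b7 : allR fl_pf2 14080 8 (7 * 2 ^ 8) = true := by decide +kernel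
theorem fl_pow2_b8 : allR fl_pf2 14080 8 (8 * 2 ^ 8) = true := by decide +kernel
theorem fl_pow2_b9 : allR fl_pf2 14080 8 (9 * 2 ^ 8) = true := by decide +kernel
theorem fl_pow2_b10 : allR fl_pf2 14080 8 (10 * 2 ^ 8) = true := by decide +kernel
theorem fl_pow2_b11 : allR fl_pf2 14080 8 (11 * 2 ^ 8) = true := by decide +kernel
theorem fl_pow2_b12 : allR fl_pf2 14080 8 (12 * 2 ^ 8) = true := by decide +kernel
theorem fl_pow2_b13 : allR fl_pf2 14080 8 (13 * 2 ^ 8) = true := by decide +kernel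
theorem fl_pow2_b14 : allR fl_pf2 14080 8 (14 * 2 ^ 8) = true := by decide +kernel
theorem fl_pow2_b15 : allR fl_pf2 14080 8 (15 * 2 ^ 8) = true := by decide +kernel

end Cfsg.Agent.H10.Fi22T
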