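import Cfsg.Agent.H10.Fi22T.LData

set_option autoImplicit false
set_option linter.all false

namespace Cfsg.Agent.H10.Fi22T

open Cfsg.Agent.H35 Cfsg.Spor Cfsg.Agent.H10

theorem fl_pow2_b16 : allR fl_pf2 14080 8 (16 * 2 ^ 8) = true := by decide +kernel
theorem fl_pow2_b17 : allR fl_pf2 14080 8 (17 * 2 ^ 8) = true := by decide +kernel
theorem fl_pow2_b18 : allR fl_pf2 14080 8 (18 * 2 ^ 8) = true := by decide +kernel
theorem fl_pow2_b19 : allR fl_pf2 14080 8 (19 * 2 ^ 8) = true := by decide +kernel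
theorem fl_pow2_b20 : allR fl_pf2 14080 8 (20 * 2 ^ 8) = true := by decide +kernel
theorem fl_pow2_b21 : allR fl_pf2 14080 8 (21 * 2 ^ 8) = true := by decide +kernel
theorem fl_pow2_b22 : allR fl_pf2 14080 8 (22 * 2 ^ 8) = true := by decide +kernel
theorem fl_pow2_b23 : allR fl_pf2 14080 8 (23 * 2 ^ 8) = true := by decide +kernel
theorem fl_pow2_b24 : allR fl_pf2 14080 8 (24 * 2 ^ 8) = true := by decide +kernel
theorem fl_pow2_b25 : allR fl_pf2 14080 8 (25 * 2 ^ 8) = true := by decide +kernel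
theorem fl_pow2_b26 : allR fl_pf2 14080 8 (26 * 2 ^ 8) = true := by decide +kernel
theorem fl_pow2_b27 : allR fl_pf2 14080 8 (27 * 2 ^ 8) = true := by decide +kernel
theorem fl_pow2_b28 : allR fl_pf2 14080 8 (28 * 2 ^ 8) = true := by decide +kernel
theorem fl_pow2_b29 : allR fl_pf2 14080 8 (29 * 2 ^ 8) = true := by decide +kernel
theorem fl_pow2_b30 : allR fl_pf2 14080 8 (30 * 2 ^ 8) = true := by decide +kernel
theorem fl_pow2_b31 : allR fl_pf2 14080 8 (31 * 2 ^ 8) = true := by decide +kernel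
theorem fl_pow2_b32 : allR fl_pf2 14080 8 (32 * 2 ^ 8) = true := by decide +kernel
theorem fl_pow2_b33 : allR fl_pf2 14080 8 (33 * 2 ^ 8) = true := by decide +kernel
theorem fl_pow2_b34 : allR fl_pf2 14080 8 (34 * 2 ^ 8) = true := by decide +kernel
theorem fl_pow2_b35 : allR fl_pf2 14080 8 (35 * 2 ^ 8) = true := by decide +kernel
theorem fl_pow2_b36 : allR fl_pf2 14080 8 (36 * 2 ^ 8) = true := by decide +kernel
theorem fl_pow2_b37 : allR fl_pf2 14080 8 (37 * 2 ^ 8) = true := by decide +kernel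
theorem fl_pow2_b38 : allR fl_pf2 14080 8 (38 * 2 ^ 8) = true := by decide +kernel
theorem fl_pow2_b39 : allR fl_pf2 14080 8 (39 * 2 ^ 8) = true := by decide +kernel
theorem fl_pow2_b40 : allR fl_pf2 14080 8 (40 * 2 ^ 8) = true := by decide +kernel
theorem fl_pow2_b41 : allR fl_pf2 14080 8 (41 * 2 ^ 8) = true := by decide +kernel
theorem fl_pow2_b42 : allR fl_pf2 14080 8 (42 * 2 ^ 8) = true := by decide +kernel
theorem fl_pow2_b43 : allR fl_pf2 14080 8 (43 * 2 ^ 8) = true := by decide +kernel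
theorem fl_pow2_b44 : allR fl_pf2 14080 8 (44 * 2 ^ 8) = true := by decide +kernel
theorem fl_pow2_b45 : allR fl_pf2 14080 8 (45 * 2 ^ 8) = true := by decide +kernel
theorem fl_pow2_b46 : allR fl_pf2 14080 8 (46 * 2 ^ 8) = true := by decide +kernel
theorem fl_pow2_b47 : allR fl_pf2 14080 8 (47 * 2 ^ 8) = true := by decide +kernel
theorem fl_pow2_b48 : allR fl_pf2 14080 8 (48 * 2 ^ 8) = true := by decide +kernel
theorem fl_pow2_b49 : allR fl_pf2 14080 8 (49 * 2 ^ 8) = true := by decide +kernel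
theorem fl_pow2_b50 : allR fl_pf2 14080 8 (50 * 2 ^ 8) = true := by decide +kernel
theorem fl_pow2_b51 : allR fl_pf2 14080 8 (51 * 2 ^ 8) = true := by decide +kernel
theorem fl_pow2_b52 : allR fl_pf2 14080 8 (52 * 2 ^ 8) = true := by decide +kernel
theorem fl_pow2_b53 : allR fl_pf2 14080 8 (53 * 2 ^ 8) = true := by decide +kernel
theorem fl_pow2_b54 : allR fl_pf2 14080 8 (54 * 2 ^ 8) = true := by decide +kernel

end Cfsg.Agent.H10.Fi22T
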