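import Cfsg.Agent.H10.Fi22T.LPow0
import Cfsg.Agent.H10.Fi22T.LPow1
import Cfsg.Agent.H10.Fi22T.LPow2
import Cfsg.Agent.H10.Fi22T.LPow3

set_option autoImplicit false
set_option linter.all false

namespace Cfsg.Agent.H10.Fi22T

open Cfsg.Agent.H35 Cfsg.Spor Cfsg.Agent.H10

theorem fl_pow0 : ∀ p, p < 14080 → fl_pf0 p = true := by
  apply allR_blocks fl_pf0 14080 8 55 _ (by decide)
  intro k hk
  interval_cases k
  · exact fl_pow0_b0
  · exact fl_pow0_b1
  · exact fl_pow0_b2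
  · exact fl_pow0_b3
  · exact fl_pow0_b4
  · exact fl_pow0_b5
  · exact fl_pow0_b6
  · exact fl_pow0_b7
  · exact fl_pow0_b8
  · exact fl_pow0_b9
  · exact fl_pow0_b10
  · exact fl_pow0_b11
  · exact fl_pow0_b12
  · exact fl_pow0_b13
  · exact fl_pow0_b14
  · exact fl_pow0_b15
  · exact fl_pow0_b16
  · exact fl_pow0_b17
  · exact fl_pow0_b18
  · exact fl_pow0_b19
  · exact fl_pow0_b20
  · exact fl_pow0_b21
  · exact fl_pow0_b22
  · exact fl_pow0_b23
  · exact fl_pow0_b24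
  · exact fl_pow0_b25
  · exact fl_pow0_b26
  · exact fl_pow0_b27
  · exact fl_pow0_b28
  · exact fl_pow0_b29
  · exact fl_pow0_b30
  · exact fl_pow0_b31
  · exact fl_pow0_b32
  · exact fl_pow0_b33
  · exact fl_pow0_b34
  · exact fl_pow0_b35
  · exact fl_pow0_b36
  · exact fl_pow0_b37
  · exact fl_pow0_b38
  · exact fl_pow0_b39
  · exact fl_pow0_b40
  · exact fl_pow0_b41
  · exact fl_pow0_b42
  · exact fl_pow0_b43
  · exact fl_pow0_b44
  · exact fl_pow0_b45
  · exact fl_pow0_b46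
  · exact fl_pow0_b47
  · exact fl_pow0_b48
  · exact fl_pow0_b49
  · exact fl_pow0_b50
  · exact fl_pow0_b51
  · exact fl_pow0_b52
  · exact fl_pow0_b53
  · exact fl_pow0_b54

theorem fl_pow1 : ∀ p, p < 14080 → fl_pf1 p = true := by
  apply allR_blocks fl_pf1 14080 8 55 _ (by decide)
  intro k hk
  interval_cases k
  · exact fl_pow1_b0
  · exact fl_pow1_b1
  · exact fl_pow1_b2
  · exact fl_pow1_b3
  · exact fl_pow1_b4
  · exact fl_pow1_b5
  · exact fl_pow1_b6
  · exact fl_pow1_b7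
  · exact fl_pow1_b8
  · exact fl_pow1_b9
  · exact fl_pow1_b10
  · exact fl_pow1_b11
  · exact fl_pow1_b12
  · exact fl_pow1_b13
  · exact fl_pow1_b14
  · exact fl_pow1_b15
  · exact fl_pow1_b16
  · exact fl_pow1_b17
  · exact fl_pow1_b18
  · exact fl_pow1_b19
  · exact fl_pow1_b20
  · exact fl_pow1_b21
  · exact fl_pow1_b22
  · exact fl_pow1_b23
  · exact fl_pow1_b24
  · exact fl_pow1_b25
  · exact fl_pow1_b26
  · exact fl_pow1_b27
  · exact fl_pow1_b28
  · exact fl_pow1_b29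
  · exact fl_pow1_b30
  · exact fl_pow1_b31
  · exact fl_pow1_b32
  · exact fl_pow1_b33
  · exact fl_pow1_b34
  · exact fl_pow1_b35
  · exact fl_pow1_b36
  · exact fl_pow1_b37
  · exact fl_pow1_b38
  · exact fl_pow1_b39
  · exact fl_pow1_b40
  · exact fl_pow1_b41
  · exact fl_pow1_b42
  · exact fl_pow1_b43
  · exact fl_pow1_b44
  · exact fl_pow1_b45
  · exact fl_pow1_b46
  · exact fl_pow1_b47
  · exact fl_pow1_b48
  · exact fl_pow1_b49
  · exact fl_pow1_b50
  · exact fl_pow1_b51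
  · exact fl_pow1_b52
  · exact fl_pow1_b53
  · exact fl_pow1_b54

theorem fl_pow2 : ∀ p, p < 14080 → fl_pf2 p = true := by
  apply allR_blocks fl_pf2 14080 8 55 _ (by decide)
  intro k hk
  interval_cases k
  · exact fl_pow2_b0
  · exact fl_pow2_b1
  · exact fl_pow2_b2
  · exact fl_pow2_b3
  · exact fl_pow2_b4
  · exact fl_pow2_b5
  · exact fl_pow2_b6
  · exact fl_pow2_b7
  · exact fl_pow2_b8
  · exact fl_pow2_b9
  · exact fl_pow2_b10
  · exact fl_pow2_b11
  · exact fl_pow2_b12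
  · exact fl_pow2_b13
  · exact fl_pow2_b14
  · exact fl_pow2_b15
  · exact fl_pow2_b16
  · exact fl_pow2_b17
  · exact fl_pow2_b18
  · exact fl_pow2_b19
  · exact fl_pow2_b20
  · exact fl_pow2_b21
  · exact fl_pow2_b22
  · exact fl_pow2_b23
  · exact fl_pow2_b24
  · exact fl_pow2_b25
  · exact fl_pow2_b26
  · exact fl_pow2_b27
  · exact fl_pow2_b28
  · exact fl_pow2_b29
  · exact fl_pow2_b30
  · exact fl_pow2_b31
  · exact fl_pow2_b32
  · exact fl_pow2_b33
  · exact fl_pow2_b34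
  · exact fl_pow2_b35
  · exact fl_pow2_b36
  · exact fl_pow2_b37
  · exact fl_pow2_b38
  · exact fl_pow2_b39
  · exact fl_pow2_b40
  · exact fl_pow2_b41
  · exact fl_pow2_b42
  · exact fl_pow2_b43
  · exact fl_pow2_b44
  · exact fl_pow2_b45
  · exact fl_pow2_b46
  · exact fl_pow2_b47
  · exact fl_pow2_b48
  · exact fl_pow2_b49
  · exact fl_pow2_b50
  · exact fl_pow2_b51
  · exact fl_pow2_b52
  · exact fl_pow2_b53
  · exact fl_pow2_b54

end Cfsg.Agent.H10.Fi22T
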