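import Cfsg.Agent.H10.Fi22T.Upper
import Cfsg.Agent.H10.Fi22T.LChk
import Cfsg.Agent.H10.Fi22T.LPow

/-!
# The presented Fi22 is simple of order 64561751654400 (helper10)
-/

set_option autoImplicit false

namespace Cfsg.Agent.H10.Fi22T

open Cfsg.Agent.H35 Cfsg.Spor Cfsg.Agent.H10

theorem dvd_14080 : ∀ k ∈ Nat.divisors 14080, 3160 ≤ k → 11 ∣ k := by decide +kernel

theorem fi22_split (u : List Fi22.Gen) (x : Fi22.Gen) :
    fi22_gen x = uw fi22_gen u * uw fi22_gen (u.reverse ++ [x]) := by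
  rw [uw_append, uw_reverse _ fi22_inv, uw_singleton, mul_inv_cancel_left]

theorem fi22_edge (x y : Fi22.Gen) : (fi22_gen x * fi22_gen y) ^ coxLabel Fi22.edges x y = 1 :=
  fi22_sat.1 x y

theorem fl_pw2_eq : fl_pw2 = (fl_pw0 ++ fl_pw0 ++ fl_pw1 ++ fl_pw1).reverse ++ [.a] := by decide

/-- the order and the simplicity of the presented Fi22 -/
theorem fi22_main : Nat.card Fi22 = 64561751654400 ∧ IsSimpleGroup Fi22 := by
  have hN : 0 < t1685_pd.N := by decide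
  obtain ⟨ρ, hw, hst, htr⟩ := tc_core top_hyp hN
  have hfin : Finite Fi22 := top_bound.1
  let b1 : Fin t1685_pd.N := ⟨0, hN⟩
  let b2 : Fin t1685_pd.N := ⟨1, by decide⟩
  let rB : Fin t1685_pd.N := ⟨191, by decide⟩
  let b3 : Fin t1685_pd.N := ⟨1339, by decide⟩
  let b4 : Fin t1685_pd.N := ⟨10395, by decide⟩
  let K2 : Subgroup Fi22 := ⊤ ⊓ stabOf ρ b1
  let K3 : Subgroup Fi22 := K2 ⊓ stabOf ρ b2
  let K4 : Subgroup Fi22 := K3 ⊓ stabOf ρ b3
  let K5 : Subgroup Fi22 := K4 ⊓ stabOf ρ b4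
  -- the two non-trivial suborbits
  have hstA : ∀ w ∈ fl_wsA, uw fi22_gen w ∈ stabOf ρ b1 := fun w hwm =>
    fixOK_mem fi22_gen ρ hw fl_wsA _ fl_fixA w hwm b1 (by show (0 : ℕ) ∈ _; decide)
  have hstB : ∀ w ∈ fl_wsB, uw fi22_gen w ∈ stabOf ρ b1 := fun w hwm =>
    fixOK_mem fi22_gen ρ hw fl_wsB _ fl_fixB w hwm b1 (by show (0 : ℕ) ∈ _; decide)
  let OA : Finset (Fin t1685_pd.N) :=
    Finset.univ.filter (fun p : Fin t1685_pd.N => Nat.ble 1 (fld 16 (fl_lab p.val) 0) = true)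
  let OB : Finset (Fin t1685_pd.N) :=
    Finset.univ.filter (fun p : Fin t1685_pd.N => Nat.ble 1 (fld 16 (fl_lab p.val) 2) = true)
  have hOA : ∀ x ∈ OA, ∃ g ∈ stabOf ρ b1, ρ g b2 = x := fun x hx => by
    rw [Finset.mem_filter, Nat.ble_eq] at hx
    exact lvl_orbit fi22_gen ρ hw (stabOf ρ b1) fl_lab 0 fl_wsA b2 hstA
      (allR_all _ _ 14 (by decide) fl_lvlA) _ x rfl hx.2
  have hOB : ∀ x ∈ OB, ∃ g ∈ stabOf ρ b1, ρ g rB = x := fun x hx => by
    rw [Finset.mem_filter, Nat.ble_eq] at hx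
    exact lvl_orbit fi22_gen ρ hw (stabOf ρ b1) fl_lab 2 fl_wsB rB hstB
      (allR_all _ _ 14 (by decide) fl_lvlB) _ x rfl hx.2
  have hcA : OA.card = 3159 := by
    rw [card_filter_fin (fun i => Nat.ble 1 (fld 16 (fl_lab i) 0)) t1685_pd.N 14 (by decide)]
    exact fl_cntA
  have hcB : OB.card = 10920 := by
    rw [card_filter_fin (fun i => Nat.ble 1 (fld 16 (fl_lab i) 2)) t1685_pd.N 14 (by decide)]
    exact fl_cntB
  -- level 1
  have s1 : 14080 * Nat.card K2 ≤ Nat.card (⊤ : Subgroup Fi22) := by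
    have := level_step ρ ⊤ b1 Finset.univ (fun x _ => by
      obtain ⟨g, hg⟩ := htr x
      exact ⟨g, Subgroup.mem_top g, hg⟩)
    rw [Finset.card_univ, Fintype.card_fin] at this
    exact this
  -- level 2
  have s2 : 3159 * Nat.card K3 ≤ Nat.card K2 := by
    have := level_step ρ K2 b2 OA (fun x hx => by
      obtain ⟨g, hg, e⟩ := hOA x hx
      exact ⟨g, ⟨Subgroup.mem_top g, hg⟩, e⟩)
    rw [hcA] at this
    exact this
  -- level 3
  have hK3 : ∀ w ∈ fl_ws3, uw fi22_gen w ∈ K3 := fun w hwm =>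
    ⟨⟨Subgroup.mem_top _, fixOK_mem fi22_gen ρ hw fl_ws3 _ fl_fix3 w hwm b1
      (by show (0 : ℕ) ∈ _; decide)⟩,
      fixOK_mem fi22_gen ρ hw fl_ws3 _ fl_fix3 w hwm b2 (by decide)⟩
  have s3 : 7560 * Nat.card K4 ≤ Nat.card K3 := by
    have := level_step ρ K3 b3
      (Finset.univ.filter (fun p : Fin t1685_pd.N => Nat.ble 1 (fld 16 (fl_lab p.val) 4) = true))
      (fun x hx => by
        rw [Finset.mem_filter, Nat.ble_eq] at hx
        exact lvl_orbit fi22_gen ρ hw K3 fl_lab 4 fl_ws3 b3 hK3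
          (allR_all _ _ 14 (by decide) fl_lvl3) _ x rfl hx.2)
    rw [card_filter_fin (fun i => Nat.ble 1 (fld 16 (fl_lab i) 4)) t1685_pd.N 14 (by decide)] at this
    rw [show cntR (fun i => Nat.ble 1 (fld 16 (fl_lab i) 4)) t1685_pd.N 14 0 = 7560 from fl_cnt3]
      at this
    exact this
  -- level 4
  have hK4 : ∀ w ∈ fl_ws4, uw fi22_gen w ∈ K4 := fun w hwm =>
    ⟨⟨⟨Subgroup.mem_top _, fixOK_mem fi22_gen ρ hw fl_ws4 _ fl_fix4 w hwm b1
      (by show (0 : ℕ) ∈ _; decide)⟩,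
      fixOK_mem fi22_gen ρ hw fl_ws4 _ fl_fix4 w hwm b2 (by decide)⟩,
      fixOK_mem fi22_gen ρ hw fl_ws4 _ fl_fix4 w hwm b3 (by decide)⟩
  have s4 : 192 * Nat.card K5 ≤ Nat.card K4 := by
    have := level_step ρ K4 b4
      (Finset.univ.filter (fun p : Fin t1685_pd.N => Nat.ble 1 (fld 16 (fl_lab p.val) 6) = true))
      (fun x hx => by
        rw [Finset.mem_filter, Nat.ble_eq] at hx
        exact lvl_orbit fi22_gen ρ hw K4 fl_lab 6 fl_ws4 b4 hK4
          (allR_all _ _ 14 (by decide) fl_lvl4) _ x rfl hx.2)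
    rw [card_filter_fin (fun i => Nat.ble 1 (fld 16 (fl_lab i) 6)) t1685_pd.N 14 (by decide)] at this
    rw [show cntR (fun i => Nat.ble 1 (fld 16 (fl_lab i) 6)) t1685_pd.N 14 0 = 192 from fl_cnt4]
      at this
    exact this
  have hK5pos : 0 < Nat.card K5 := Nat.card_pos
  have htop : Nat.card (⊤ : Subgroup Fi22) = Nat.card Fi22 := Subgroup.card_top
  have hub := top_bound.2
  have hcard : Nat.card Fi22 = 64561751654400 := by omega
  have hK5 : Nat.card K5 = 1 := by omega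
  -- the representation is faithful
  have hinj : ∀ g : Fi22, ρ g = 1 → g = 1 := by
    intro g hg
    have hmem : g ∈ K5 := by
      have hfix : ∀ b : Fin t1685_pd.N, g ∈ stabOf ρ b := fun b => by
        rw [mem_stabOf, hg]; rfl
      exact ⟨⟨⟨⟨Subgroup.mem_top g, hfix b1⟩, hfix b2⟩, hfix b3⟩, hfix b4⟩
    have hbot : K5 = ⊥ := Subgroup.card_eq_one.mp hK5
    rw [hbot, Subgroup.mem_bot] at hmem
    exact hmem
  refine ⟨hcard, ?_⟩
  -- elements of order dividing 22, 22, 11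
  have hp0 : uw fi22_gen fl_pw0 ^ 22 = 1 := hinj _ (by
    rw [map_pow]
    exact powCol_sound fi22_gen ρ hw fl_col 0 22 fl_pw0 (fun p hp => fl_pow0 p hp))
  have hp1 : uw fi22_gen fl_pw1 ^ 22 = 1 := hinj _ (by
    rw [map_pow]
    exact powCol_sound fi22_gen ρ hw fl_col 1 22 fl_pw1 (fun p hp => fl_pow1 p hp))
  have hp2 : uw fi22_gen fl_pw2 ^ 11 = 1 := hinj _ (by
    rw [map_pow]
    exact powCol_sound fi22_gen ρ hw fl_col 2 11 fl_pw2 (fun p hp => fl_pow2 p hp))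
  have hnp : ¬ 11 ^ 2 ∣ Nat.card Fi22 := by rw [hcard]; norm_num
  have : Fact (Nat.Prime 11) := ⟨by norm_num⟩
  have hnt : Nontrivial Fi22 := by
    rw [← Finite.one_lt_card_iff_nontrivial, hcard]; norm_num
  refine @IsSimpleGroup.mk _ _ hnt ?_
  intro N hNn
  have hm : ∀ ω : Fin t1685_pd.N, ω ≠ b1 → ∃ O : Finset (Fin t1685_pd.N), 3159 ≤ O.card ∧
      b1 ∉ O ∧ ∀ x ∈ O, ∃ h ∈ stabOf ρ b1, ρ h ω = x := by
    intro ω hω
    have hc := allR_all _ _ 14 (by decide) fl_all ω.val ω.isLt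
    rw [Bool.or_eq_true, Bool.or_eq_true, Nat.beq_eq] at hc
    rcases hc with hc | hc | hc
    · exact absurd (Fin.ext hc) hω
    · refine ⟨OA, by rw [hcA], ?_, orbit_family ρ _ OA b2 hOA ω ?_⟩
      · intro h0
        rw [Finset.mem_filter, Nat.ble_eq] at h0
        have h00 : fld 16 (fl_lab (b1 : Fin t1685_pd.N).val) 0 = 0 := fl_zeroA
        omega
      · rw [Finset.mem_filter]; exact ⟨Finset.mem_univ _, hc⟩
    · refine ⟨OB, by rw [hcB]; norm_num, ?_, orbit_family ρ _ OB rB hOB ω ?_⟩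
      · intro h0
        rw [Finset.mem_filter, Nat.ble_eq] at h0
        have h00 : fld 16 (fl_lab (b1 : Fin t1685_pd.N).val) 2 = 0 := fl_zeroB
        omega
      · rw [Finset.mem_filter]; exact ⟨Finset.mem_univ _, hc⟩
  rcases normal_le_or_relIndex ρ b1 htr 3159 hm N with hle | ⟨hk1, hk2, hk3⟩
  · left
    exact normal_le_stab_eq_bot ρ hinj b1 htr N hle
  · right
    have hk2' : (stabOf ρ b1).relIndex N ∣ 14080 := hk2
    have h11N : 11 ∣ Nat.card N :=
      (dvd_14080 _ (Nat.mem_divisors.mpr ⟨hk2', by norm_num⟩) hk1).trans hk3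
    have m0 : uw fi22_gen fl_pw0 * uw fi22_gen fl_pw0 ∈ N :=
      mem_normal_of_pow_prime 11 hnp N h11N _ (by rw [← pow_two, ← pow_mul]; exact hp0)
    have m1 : uw fi22_gen fl_pw1 * uw fi22_gen fl_pw1 ∈ N :=
      mem_normal_of_pow_prime 11 hnp N h11N _ (by rw [← pow_two, ← pow_mul]; exact hp1)
    have m2 : uw fi22_gen fl_pw2 ∈ N := mem_normal_of_pow_prime 11 hnp N h11N _ hp2
    have ha : fi22_gen .a ∈ N := by
      rw [fi22_split (fl_pw0 ++ fl_pw0 ++ fl_pw1 ++ fl_pw1) .a, ← fl_pw2_eq, uw_append, uw_append,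
        uw_append, mul_assoc (uw fi22_gen fl_pw0 * uw fi22_gen fl_pw0)]
      exact N.mul_mem (N.mul_mem m0 m1) m2
    have hb : fi22_gen .b ∈ N :=
      mem_normal_of_odd_edge N _ _ 1 (fi22_inv .b) (fi22_edge .a .b) ha
    have hc : fi22_gen .c ∈ N :=
      mem_normal_of_odd_edge N _ _ 1 (fi22_inv .c) (fi22_edge .b .c) hb
    have hd : fi22_gen .d ∈ N :=
      mem_normal_of_odd_edge N _ _ 1 (fi22_inv .d) (fi22_edge .c .d) hc
    have he : fi22_gen .e ∈ N :=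
      mem_normal_of_odd_edge N _ _ 1 (fi22_inv .e) (fi22_edge .d .e) hd
    have hf : fi22_gen .f ∈ N :=
      mem_normal_of_odd_edge N _ _ 1 (fi22_inv .f) (fi22_edge .e .f) he
    have hg : fi22_gen .g ∈ N :=
      mem_normal_of_odd_edge N _ _ 1 (fi22_inv .g) (fi22_edge .f .g) hf
    have hh : fi22_gen .h ∈ N :=
      mem_normal_of_odd_edge N _ _ 1 (fi22_inv .h) (fi22_edge .d .h) hd
    have hi : fi22_gen .i ∈ N :=
      mem_normal_of_odd_edge N _ _ 1 (fi22_inv .i) (fi22_edge .h .i) hh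
    rw [eq_top_iff, ← fi22_closure, Subgroup.closure_le]
    rintro _ ⟨x, rfl⟩
    cases x <;> assumption

end Cfsg.Agent.H10.Fi22T
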