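import Cfsg.Agent.H10.Tower
import Cfsg.Agent.H35.Fi22Glue

/-!
# Sub-presentations (helper10; generated)
-/

set_option autoImplicit false

namespace Cfsg.Agent.H10.Fi22T

open Cfsg.Agent.H35 Cfsg.Spor

def f5_rws : List (List Fi22.Gen × List Fi22.Gen) := [
  ([.c], [.c]),
  ([.c, .d, .c], [.d, .c, .d]),
  ([.c, .e], [.e, .c]),
  ([.c, .f], [.f, .c]),
  ([.c, .h], [.h, .c]),
  ([.d, .c, .d], [.c, .d, .c]),
  ([.d], [.d]),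
  ([.d, .e, .d], [.e, .d, .e]),
  ([.d, .f], [.f, .d]),
  ([.d, .h, .d], [.h, .d, .h]),
  ([.e, .c], [.c, .e]),
  ([.e, .d, .e], [.d, .e, .d]),
  ([.e], [.e]),
  ([.e, .f, .e], [.f, .e, .f]),
  ([.e, .h], [.h, .e]),
  ([.f, .c], [.c, .f]),
  ([.f, .d], [.d, .f]),
  ([.f, .e, .f], [.e, .f, .e]),
  ([.f], [.f]),
  ([.f, .h], [.h, .f]),
  ([.h, .c], [.c, .h]),
  ([.h, .d, .h], [.d, .h, .d]),
  ([.h, .e], [.e, .h]),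
  ([.h, .f], [.f, .h]),
  ([.h], [.h]),
  ([.a], []),
  ([.b], []),
  ([.g], []),
  ([.i], [])]
def f5_prels : List (List Fi22.Gen × ℕ × ℕ) := [
]
def f5_S (x : Fi22.Gen) : Bool := decide (x ∈ ([.c, .d, .e, .f, .h] : List Fi22.Gen))

def f6_rws : List (List Fi22.Gen × List Fi22.Gen) := [
  ([.b], [.b]),
  ([.b, .c, .b], [.c, .b, .c]),
  ([.b, .d], [.d, .b]),
  ([.b, .e], [.e, .b]),
  ([.b, .f], [.f, .b]),
  ([.b, .h], [.h, .b]),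
  ([.c, .b, .c], [.b, .c, .b]),
  ([.c], [.c]),
  ([.c, .d, .c], [.d, .c, .d]),
  ([.c, .e], [.e, .c]),
  ([.c, .f], [.f, .c]),
  ([.c, .h], [.h, .c]),
  ([.d, .b], [.b, .d]),
  ([.d, .c, .d], [.c, .d, .c]),
  ([.d], [.d]),
  ([.d, .e, .d], [.e, .d, .e]),
  ([.d, .f], [.f, .d]),
  ([.d, .h, .d], [.h, .d, .h]),
  ([.e, .b], [.b, .e]),
  ([.e, .c], [.c, .e]),
  ([.e, .d, .e], [.d, .e, .d]),
  ([.e], [.e]),
  ([.e, .f, .e], [.f, .e, .f]),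
  ([.e, .h], [.h, .e]),
  ([.f, .b], [.b, .f]),
  ([.f, .c], [.c, .f]),
  ([.f, .d], [.d, .f]),
  ([.f, .e, .f], [.e, .f, .e]),
  ([.f], [.f]),
  ([.f, .h], [.h, .f]),
  ([.h, .b], [.b, .h]),
  ([.h, .c], [.c, .h]),
  ([.h, .d, .h], [.d, .h, .d]),
  ([.h, .e], [.e, .h]),
  ([.h, .f], [.f, .h]),
  ([.h], [.h]),
  ([.a], []),
  ([.g], []),
  ([.i], [])]
def f6_prels : List (List Fi22.Gen × ℕ × ℕ) := [
]
def f6_S (x : Fi22.Gen) : Bool := decide (x ∈ ([.b, .c, .d, .e, .f, .h] : List Fi22.Gen))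

def f7_rws : List (List Fi22.Gen × List Fi22.Gen) := [
  ([.b], [.b]),
  ([.b, .c, .b], [.c, .b, .c]),
  ([.b, .d], [.d, .b]),
  ([.b, .e], [.e, .b]),
  ([.b, .f], [.f, .b]),
  ([.b, .h], [.h, .b]),
  ([.b, .i], [.i, .b]),
  ([.c, .b, .c], [.b, .c, .b]),
  ([.c], [.c]),
  ([.c, .d, .c], [.d, .c, .d]),
  ([.c, .e], [.e, .c]),
  ([.c, .f], [.f, .c]),
  ([.c, .h], [.h, .c]),
  ([.c, .i], [.i, .c]),
  ([.d, .b], [.b, .d]),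
  ([.d, .c, .d], [.c, .d, .c]),
  ([.d], [.d]),
  ([.d, .e, .d], [.e, .d, .e]),
  ([.d, .f], [.f, .d]),
  ([.d, .h, .d], [.h, .d, .h]),
  ([.d, .i], [.i, .d]),
  ([.e, .b], [.b, .e]),
  ([.e, .c], [.c, .e]),
  ([.e, .d, .e], [.d, .e, .d]),
  ([.e], [.e]),
  ([.e, .f, .e], [.f, .e, .f]),
  ([.e, .h], [.h, .e]),
  ([.e, .i], [.i, .e]),
  ([.f, .b], [.b, .f]),
  ([.f, .c], [.c, .f]),
  ([.f, .d], [.d, .f]),
  ([.f, .e, .f], [.e, .f, .e]),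
  ([.f], [.f]),
  ([.f, .h], [.h, .f]),
  ([.f, .i], [.i, .f]),
  ([.h, .b], [.b, .h]),
  ([.h, .c], [.c, .h]),
  ([.h, .d, .h], [.d, .h, .d]),
  ([.h, .e], [.e, .h]),
  ([.h, .f], [.f, .h]),
  ([.h], [.h]),
  ([.h, .i, .h], [.i, .h, .i]),
  ([.i, .b], [.b, .i]),
  ([.i, .c], [.c, .i]),
  ([.i, .d], [.d, .i]),
  ([.i, .e], [.e, .i]),
  ([.i, .f], [.f, .i]),
  ([.i, .h, .i], [.h, .i, .h]),
  ([.i], [.i]),
  ([.a], []),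
  ([.g], [])]
def f7_prels : List (List Fi22.Gen × ℕ × ℕ) := [
  ([.d, .c, .b, .d, .e, .f, .d, .h, .i], 10, 11)]
def f7_S (x : Fi22.Gen) : Bool := decide (x ∈ ([.b, .c, .d, .e, .f, .h, .i] : List Fi22.Gen))

def f8_rws : List (List Fi22.Gen × List Fi22.Gen) := [
  ([.b], [.b]),
  ([.b, .c, .b], [.c, .b, .c]),
  ([.b, .d], [.d, .b]),
  ([.b, .e], [.e, .b]),
  ([.b, .f], [.f, .b]),
  ([.b, .g], [.g, .b]),
  ([.b, .h], [.h, .b]),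
  ([.b, .i], [.i, .b]),
  ([.c, .b, .c], [.b, .c, .b]),
  ([.c], [.c]),
  ([.c, .d, .c], [.d, .c, .d]),
  ([.c, .e], [.e, .c]),
  ([.c, .f], [.f, .c]),
  ([.c, .g], [.g, .c]),
  ([.c, .h], [.h, .c]),
  ([.c, .i], [.i, .c]),
  ([.d, .b], [.b, .d]),
  ([.d, .c, .d], [.c, .d, .c]),
  ([.d], [.d]),
  ([.d, .e, .d], [.e, .d, .e]),
  ([.d, .f], [.f, .d]),
  ([.d, .g], [.g, .d]),
  ([.d, .h, .d], [.h, .d, .h]),
  ([.d, .i], [.i, .d]),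
  ([.e, .b], [.b, .e]),
  ([.e, .c], [.c, .e]),
  ([.e, .d, .e], [.d, .e, .d]),
  ([.e], [.e]),
  ([.e, .f, .e], [.f, .e, .f]),
  ([.e, .g], [.g, .e]),
  ([.e, .h], [.h, .e]),
  ([.e, .i], [.i, .e]),
  ([.f, .b], [.b, .f]),
  ([.f, .c], [.c, .f]),
  ([.f, .d], [.d, .f]),
  ([.f, .e, .f], [.e, .f, .e]),
  ([.f], [.f]),
  ([.f, .g, .f], [.g, .f, .g]),
  ([.f, .h], [.h, .f]),
  ([.f, .i], [.i, .f]),
  ([.g, .b], [.b, .g]),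
  ([.g, .c], [.c, .g]),
  ([.g, .d], [.d, .g]),
  ([.g, .e], [.e, .g]),
  ([.g, .f, .g], [.f, .g, .f]),
  ([.g], [.g]),
  ([.g, .h], [.h, .g]),
  ([.g, .i], [.i, .g]),
  ([.h, .b], [.b, .h]),
  ([.h, .c], [.c, .h]),
  ([.h, .d, .h], [.d, .h, .d]),
  ([.h, .e], [.e, .h]),
  ([.h, .f], [.f, .h]),
  ([.h, .g], [.g, .h]),
  ([.h], [.h]),
  ([.h, .i, .h], [.i, .h, .i]),
  ([.i, .b], [.b, .i]),
  ([.i, .c], [.c, .i]),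
  ([.i, .d], [.d, .i]),
  ([.i, .e], [.e, .i]),
  ([.i, .f], [.f, .i]),
  ([.i, .g], [.g, .i]),
  ([.i, .h, .i], [.h, .i, .h]),
  ([.i], [.i]),
  ([.a], [])]
def f8_prels : List (List Fi22.Gen × ℕ × ℕ) := [
  ([.d, .c, .b, .d, .e, .f, .d, .h, .i], 10, 11),
  ([.b, .c, .d, .e, .f, .g, .h], 9, 13)]
def f8_S (x : Fi22.Gen) : Bool := decide (x ∈ ([.b, .c, .d, .e, .f, .g, .h, .i] : List Fi22.Gen))

end Cfsg.Agent.H10.Fi22T
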